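import Groth.Agent.Lib.GeomRed18.Smooth
import Groth.Agent.Lib.RedSep.Basic

/-!
# Separable points are dense in geometrically reduced schemes
-/

set_option autoImplicit false
set_option linter.style.haveILetI false
universe u

open CategoryTheory Limits AlgebraicGeometry

namespace Groth.Agent.SepDense19

attribute [local instance] Curv2.stalkAlgebra Curv2.resAlgebra

variable {k : Type u} [Field k]

theorem dense_smoothLocus {X : Scheme.{u}} [X.Over (Spec (CommRingCat.of k))]
    [LocallyOfFiniteType (X ↘ Spec (CommRingCat.of k))] [GeometricallyReduced (X ↘ Spec (CommRingCat.of k))]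
    [LocallyOfFinitePresentation (X ↘ Spec (CommRingCat.of k))] :
    Dense ((X ↘ Spec (CommRingCat.of k)).smoothLocus : Set X) := by
  let f := X ↘ Spec (CommRingCat.of k)
  haveI : IsReduced X := GeometricallyReduced.isReduced_of_flat_of_isLocallyNoetherian f
  rw [dense_iff_inter_open]
  rintro U hU ⟨x, hx⟩
  obtain ⟨η, hη, hηx⟩ := FlatH4.exists_isMaxPt_specializes x
  refine ⟨η, hηx.mem_open hU hx, ?_⟩
  have hmax : closure {η} ∈ irreducibleComponents X := by
    refine ⟨isIrreducible_singleton.closure, fun Z hZ hle => ?_⟩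
    obtain ⟨ξ, hξ⟩ : ∃ ξ, closure {ξ} = closure Z :=
      ⟨hZ.genericPoint, hZ.isGenericPoint_genericPoint_closure⟩
    have h1 : ξ ⤳ η := by
      rw [specializes_iff_mem_closure, hξ]
      exact subset_closure (hle (subset_closure rfl))
    rw [hη ξ h1] at hξ
    exact subset_closure.trans hξ.ge
  have hF := isField_stalk_of_closure_mem_irreducibleComponents X η hmax
  haveI : Algebra.IsGeometricallyReduced k (X.presheaf.stalk η) :=
    (GeomRed.isGeomReducedAt_iff η).1 (GeomRed.geometricallyReduced_iff_forall.1 ‹_› η)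
  letI : Field (X.presheaf.stalk η) := hF.toField
  haveI : Algebra.FormallySmooth k (X.presheaf.stalk η) :=
    (Sep.formallySmooth_iff_isGeometricallyReduced k (X.presheaf.stalk η)).2 ‹_›
  exact RegSmooth17.mem_smoothLocus_of_toStalk f η (RingHom.formallySmooth_algebraMap.2 ‹_›)

/-- Every nonempty open of a geometrically reduced scheme of finite type contains a closed point with
finite separable residue field. -/
theorem exists_separable_point {X : Scheme.{u}} [X.Over (Spec (CommRingCat.of k))]
    [LocallyOfFiniteType (X ↘ Spec (CommRingCat.of k))] [GeometricallyReduced (X ↘ Spec (CommRingCat.of k))]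
    (U : X.Opens) {x : X} (hx : x ∈ U) :
    ∃ y ∈ U, IsClosed ({y} : Set X) ∧ FiniteDimensional k (X.residueField y) ∧
      Algebra.IsSeparable k (X.residueField y) := by
  haveI : LocallyOfFinitePresentation (X ↘ Spec (CommRingCat.of k)) := {
    finitePresentation_appLE := fun {U} hU {V} hV e =>
      haveI := IsLocallyNoetherian.component_noetherian (X := Spec (CommRingCat.of k)) ⟨U, hU⟩
      RingHom.FinitePresentation.of_finiteType.mp
        ((X ↘ Spec (CommRingCat.of k)).finiteType_appLE hU hV e) }
  let f := X ↘ Spec (CommRingCat.of k)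
  obtain ⟨η, hηU, hηs⟩ := (dense_smoothLocus (k := k) (X := X)).inter_open_nonempty U U.2 ⟨x, hx⟩
  haveI : Smooth ((U ⊓ f.smoothLocus).ι ≫ f) := by
    rw [← Scheme.Hom.smoothLocus_eq_top_iff, ← Scheme.Hom.preimage_smoothLocus_eq]
    exact top_le_iff.mp fun y _ => y.2.2
  obtain ⟨y, hy, hc, hfin, hsep⟩ := GeomRed.exists_separable_point (k := k) (U ⊓ f.smoothLocus) (x := η) ⟨hηU, hηs⟩
  exact ⟨y, hy.1, hc, hfin, hsep⟩

end Groth.Agent.SepDense19

namespace Groth.Agent.SepDense19

variable {k : Type u} [Field k]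

attribute [local instance] Curv2.resAlgebra

/-- Points with values in a separably closed field detect geometrically reduced closed subschemes. -/
theorem range_subset_of_points (K : Type u) [Field K] [Algebra k K] [IsSepClosed K]
    {X Z Z' : Over (Spec (CommRingCat.of k))} (c : Z ⟶ X) [LocallyOfFiniteType Z.hom]
    [GeometricallyReduced Z.hom] (c' : Z' ⟶ X) [IsClosedImmersion c'.left]
    (h : ∀ z : Over.mk (Spec.map (CommRingCat.ofHom (algebraMap k K))) ⟶ Z,
      ∃ z', z' ≫ c' = z ≫ c) : Set.range c.left ⊆ Set.range c'.left := by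
  letI : Z.left.Over (Spec (CommRingCat.of k)) := ⟨Z.hom⟩
  haveI : LocallyOfFiniteType (Z.left ↘ Spec (CommRingCat.of k)) := ‹LocallyOfFiniteType Z.hom›
  haveI : GeometricallyReduced (Z.left ↘ Spec (CommRingCat.of k)) := ‹GeometricallyReduced Z.hom›
  have hcl : IsClosed (c.left ⁻¹' Set.range c'.left) :=
    c'.left.isClosedEmbedding.isClosed_range.preimage c.left.continuous
  rintro _ ⟨w, rfl⟩
  by_contra hw
  obtain ⟨y, hy, -, hfin, hsep⟩ :=
    exists_separable_point (k := k) (⟨(c.left ⁻¹' Set.range c'.left)ᶜ, hcl.isOpen_compl⟩ : Z.left.Opens) (x := w) hw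
  let σ : Z.left.residueField y →ₐ[k] K := IsSepClosed.lift
  have key : (Spec.map (CommRingCat.ofHom σ.toRingHom) ≫ Z.left.fromSpecResidueField y) ≫ Z.hom =
      Spec.map (CommRingCat.ofHom (algebraMap k K)) := by
    have k0 : Spec.map (CommRingCat.ofHom (Curv2.resMap k Z.left y)) = Z.left.fromSpecResidueField y ≫ Z.hom :=
      GeomIrr.spec_resMap k Z.left y
    have k1 : σ.toRingHom.comp (Curv2.resMap k Z.left y) = algebraMap k K := σ.comp_algebraMap
    rw [Category.assoc, ← k0, ← Spec.map_comp, ← CommRingCat.ofHom_comp, k1]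
  let x : Over.mk (Spec.map (CommRingCat.ofHom (algebraMap k K))) ⟶ Z :=
    Over.homMk (Spec.map (CommRingCat.ofHom σ.toRingHom) ≫ Z.left.fromSpecResidueField y) key
  obtain ⟨x', hx'⟩ := h x
  have h1 : x'.left ≫ c'.left =
      (Spec.map (CommRingCat.ofHom σ.toRingHom) ≫ Z.left.fromSpecResidueField y) ≫ c.left :=
    congrArg CommaMorphism.left hx'
  let p : Spec (CommRingCat.of K) := IsLocalRing.closedPoint K
  have h2 := congrArg (fun q : Spec (CommRingCat.of K) ⟶ X.left => q p) h1
  simp only [Scheme.Hom.comp_apply] at h2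
  erw [Scheme.fromSpecResidueField_apply] at h2
  exact hy ⟨_, h2⟩

/-- Closed subschemes, geometrically reduced and with the same points in a separably closed field, agree. -/
theorem exists_iso (K : Type u) [Field K] [Algebra k K] [IsSepClosed K]
    {X Z Z' : Over (Spec (CommRingCat.of k))} (c : Z ⟶ X) [IsClosedImmersion c.left]
    [LocallyOfFiniteType Z.hom] [GeometricallyReduced Z.hom] (c' : Z' ⟶ X) [IsClosedImmersion c'.left]
    [LocallyOfFiniteType Z'.hom] [GeometricallyReduced Z'.hom]
    (h : ∀ x : Over.mk (Spec.map (CommRingCat.ofHom (algebraMap k K))) ⟶ X,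
      (∃ z : Over.mk (Spec.map (CommRingCat.ofHom (algebraMap k K))) ⟶ Z, z ≫ c = x) ↔
        (∃ z' : Over.mk (Spec.map (CommRingCat.ofHom (algebraMap k K))) ⟶ Z', z' ≫ c' = x)) :
    ∃ e : Z ≅ Z', e.hom ≫ c' = c := by
  haveI : IsReduced Z.left := GeometricallyReduced.isReduced_of_flat_of_isLocallyNoetherian Z.hom
  haveI : IsReduced Z'.left := GeometricallyReduced.isReduced_of_flat_of_isLocallyNoetherian Z'.hom
  obtain ⟨e, he⟩ := RedSepLib.exists_iso_of_range_eq c.left c'.left
    (Set.Subset.antisymm (range_subset_of_points K c c' fun z => (h _).1 ⟨z, rfl⟩)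
      (range_subset_of_points K c' c fun z' => (h _).2 ⟨z', rfl⟩))
  exact ⟨Over.isoMk e (by rw [← Over.w c', reassoc_of% he, Over.w c]), Over.OverMorphism.ext he⟩

end Groth.Agent.SepDense19
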